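import Cfsg.Agent.GlaubermanZJ.FullCenter

/-!
`T ↦ Z(J_e(T))` as a `CenterFunctor`.
-/

set_option autoImplicit false

open Cfsg

namespace CfsgLib.GlaubermanZJ

universe u

theorem centerThompsonOf_map_of_injOn {p : ℕ} {G H : Type*} [Group G] [Group H] (f : G →* H) (T : Subgroup G)
    (hinj : Function.Injective (f.comp T.subtype)) :
    (centerThompsonOf p T).map f = centerThompsonOf p (T.map f) := by
  have hTtop : (⊤ : Subgroup T).map T.subtype = T := by
    rw [← MonoidHom.range_eq_map, Subgroup.range_subtype]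
  have hJmap : thompsonSubgroupOf p (T.map f) = (thompsonSubgroupOf p T).map f := by
    have h1 := CfsgLib.LocalP.thompsonSubgroupOf_map (p := p) (f.comp T.subtype) hinj (⊤ : Subgroup T)
    have h2 := CfsgLib.LocalP.thompsonSubgroupOf_map (p := p) T.subtype T.subtype_injective (⊤ : Subgroup T)
    rw [hTtop] at h2
    rw [← Subgroup.map_map, hTtop, ← Subgroup.map_map, ← h2] at h1
    exact h1
  have hTle := CfsgLib.LocalP.thompsonSubgroupOf_le (p := p) T
  refine le_antisymm ?_ ?_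
  · rintro _ ⟨x, ⟨hx, hxC⟩, rfl⟩
    rw [centerThompsonOf, hJmap]
    refine ⟨⟨x, hx, rfl⟩, Subgroup.mem_centralizer_iff.mpr ?_⟩
    rintro _ ⟨j, hj, rfl⟩
    rw [← map_mul, ← map_mul, Subgroup.mem_centralizer_iff.mp hxC j hj]
  · rintro q ⟨hqJ, hqC⟩
    rw [hJmap] at hqJ hqC
    obtain ⟨x, hx, rfl⟩ := hqJ
    refine ⟨x, ⟨hx, Subgroup.mem_centralizer_iff.mpr fun j hj => ?_⟩, rfl⟩
    have h := Subgroup.mem_centralizer_iff.mp hqC (f j) ⟨j, hj, rfl⟩
    rw [← map_mul, ← map_mul] at h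
    have h5 : (f.comp T.subtype) ((⟨j, hTle hj⟩ : T) * ⟨x, hTle hx⟩) =
        (f.comp T.subtype) ((⟨x, hTle hx⟩ : T) * ⟨j, hTle hj⟩) := h
    exact congrArg (fun t : T => (t : G)) (hinj h5)

/-- `T ↦ Z(J_e(T))`. -/
def fullCenter (p : ℕ) [Fact p.Prime] : CenterFunctor.{u} p where
  obj G _ T := centerThompsonOf p T
  obj_le G _ _ T := inf_le_left.trans (CfsgLib.LocalP.thompsonSubgroupOf_le T)
  obj_ne_bot G _ _ T hT hne := by
    obtain ⟨z, hzT, hz1, hzp, hzc⟩ := exists_center_prime hT hne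
    intro h
    refine hz1 (Subgroup.mem_bot.1 (h ▸ ⟨?_, ?_⟩))
    · obtain ⟨A, hA⟩ := CfsgLib.LocalP.exists_maxElemIn (p := p) T
      rw [CfsgLib.LocalP.thompsonSubgroupOf_eq_sSup]
      exact le_sSup hA (CfsgLib.LocalP.mem_of_centralizes hA hzT hzp fun a ha => hzc a (hA.1 ha))
    · exact Subgroup.mem_centralizer_iff.2 fun j hj => hzc j (CfsgLib.LocalP.thompsonSubgroupOf_le T hj)
  obj_map G H _ _ _ _ f T hf := centerThompsonOf_map_of_injOn f T hf
  obj_normal G _ _ hp hc hst S D hD := centerThompsonOf_normal_of_stronglyClosed hp hc hst S hD.1 hD.2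

end CfsgLib.GlaubermanZJ
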