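import Cfsg.Agent.GlaubermanZJ.CenterFunctor
import Cfsg.Agent.Coprime.FixOrderP
import Cfsg.Agent.Constrained.Basic
import Mathlib.GroupTheory.Frattini

/-!
The ZJ theorem for the full centre of the Thompson subgroup built from elementary abelian subgroups, for groups
`p`-stable on their normal `p`-subgroups and for strongly closed subgroups of a Sylow subgroup. The key step follows
`CfsgLib.OddLocal.inf_centerThompsonOf_normal` (the odd order case, by helper18).
-/

set_option autoImplicit false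
set_option linter.style.haveILetI false

open scoped commutatorElement

namespace CfsgLib.GlaubermanZJ

open CfsgLib.LocalP

variable {p : ℕ} [hp : Fact p.Prime] {G : Type*} [Group G] [Finite G]

/-- The `p`-th powers of a `p`-group lie in the Frattini subgroup. -/
theorem pow_prime_mem_frattini {Q : Type*} [Group Q] [Finite Q] (hQ : IsPGroup p Q) (x : Q) :
    x ^ p ∈ frattini Q := by
  rw [frattini, Order.radical, Subgroup.mem_iInf]
  intro M
  rw [Subgroup.mem_iInf]
  intro hM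
  by_contra hxp
  have : Group.IsNilpotent Q := hQ.isNilpotent
  have hn : M.Normal := Subgroup.NormalizerCondition.normal_of_coatom M Group.normalizerCondition_of_isNilpotent hM
  have htop : M ⊔ Subgroup.zpowers (x ^ p) = ⊤ :=
    hM.2 _ (lt_of_le_of_ne le_sup_left fun e => hxp (e ▸ Subgroup.mem_sup_right (Subgroup.mem_zpowers _)))
  obtain ⟨m, hm, t, ⟨i, rfl⟩, hmt⟩ := Subgroup.mem_sup_of_normal_left.mp (htop ▸ Subgroup.mem_top x)
  set π := QuotientGroup.mk' M with hπ
  have hx : π x = π x ^ ((p : ℤ) * i) := by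
    conv_lhs => rw [← hmt]
    simp only [map_mul, map_zpow, map_pow, show π m = 1 from (QuotientGroup.eq_one_iff m).mpr hm, one_mul]
    rw [zpow_mul, zpow_natCast]
  obtain ⟨k, hk⟩ := (hQ.to_quotient M) (π x)
  have h1 : π x ^ ((p : ℤ) * i - 1) = 1 := by
    rw [zpow_sub, ← hx, zpow_one, mul_inv_cancel]
  have hco : Int.gcd ((p : ℤ) * i - 1) ((p : ℤ) ^ k) = 1 := by
    refine Int.isCoprime_iff_gcd_eq_one.mp ?_
    exact (IsCoprime.pow_right ⟨-1, i, by ring⟩)
  have h2 : π x = 1 := by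
    obtain ⟨u, v, huv⟩ := Int.isCoprime_iff_gcd_eq_one.mpr hco
    rw [← zpow_one (π x), ← huv, zpow_add, mul_comm u, zpow_mul, h1, one_zpow, one_mul, mul_comm v,
      zpow_mul]
    rw [show (p : ℤ) ^ k = ((p ^ k : ℕ) : ℤ) by push_cast; ring, zpow_natCast]
    exact hk ▸ (by rw [hk, one_zpow])
  exact hxp (M.pow_mem ((QuotientGroup.eq_one_iff x).mp h2) p)

/-- `Z(J(T))` as the part of `J(T)` centralizing `J(T)`. -/
theorem normalizer_le_normalizer_centerOfThompson (T : Subgroup G) :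
    Subgroup.normalizer (T : Set G) ≤ Subgroup.normalizer (Cfsg.centerThompsonOf p T : Set G) := by
  intro g hg
  have h := le_normalizer_thompsonSubgroupOf (p := p) T hg
  have hC : g ∈ Subgroup.normalizer
      (Subgroup.centralizer (Cfsg.thompsonSubgroupOf p T : Set G) : Set G) := by
    refine Subgroup.mem_normalizer_fintype fun c hc => Subgroup.mem_centralizer_iff.mpr fun j hj => ?_
    have hj' : g⁻¹ * j * g ∈ Cfsg.thompsonSubgroupOf p T := (Subgroup.mem_normalizer_iff''.mp h j).mp hj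
    have e : g⁻¹ * j * g * c = c * (g⁻¹ * j * g) := Subgroup.mem_centralizer_iff.mp hc _ hj'
    calc j * (g * c * g⁻¹) = g * ((g⁻¹ * j * g) * c) * g⁻¹ := by group
      _ = g * (c * (g⁻¹ * j * g)) * g⁻¹ := by rw [e]
      _ = g * c * g⁻¹ * j := by group
  rw [Subgroup.mem_normalizer_iff_map_conj_eq] at h hC ⊢
  rw [Cfsg.centerThompsonOf, Subgroup.map_inf _ _ _ (MulAut.conj g).injective, h, hC]

/-- The key step: `B ∩ Z(J(S))` is normal for every normal `p`-subgroup `B`. -/
theorem inf_centerThompsonOf_normal_of_stronglyClosed (hp2 : p ≠ 2)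
    (hst : ∀ (P : Subgroup G) [P.Normal], IsPGroup p P → Cfsg.IsPStableOn p P) (S : Sylow p G) {T : Subgroup G}
    (hTS : T ≤ (S : Subgroup G))
    (hcl : ∀ d ∈ T, ∀ g : G, g * d * g⁻¹ ∈ (S : Subgroup G) → g * d * g⁻¹ ∈ T)
    (B : Subgroup G) [hBn : B.Normal] (hB : IsPGroup p B) :
    (B ⊓ Cfsg.centerThompsonOf p T).Normal := by
  classical
  induction hn : Nat.card B using Nat.strong_induction_on generalizing B with
  | _ n ih =>
  have hSN : (S : Subgroup G) ≤ Subgroup.normalizer (T : Set G) := le_normalizer_of_closed hTS hcl le_rfl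
  set J := Cfsg.thompsonSubgroupOf p T with hJ
  set Y := Cfsg.centerThompsonOf p T with hYdef
  set W := B ⊓ Y with hW
  have hYJ : ∀ y ∈ Y, ∀ j ∈ J, j * y = y * j := fun y hy => Subgroup.mem_centralizer_iff.mp hy.2
  have hYT : Y ≤ T := inf_le_left.trans (thompsonSubgroupOf_le T)
  have hYab : ∀ x ∈ Y, ∀ y ∈ Y, x * y = y * x := fun x hx y hy => hYJ y hy x hx.1
  have hmemJ : ∀ A ∈ maxElemIn p T, A ≤ J := fun A hA => by
    rw [hJ, thompsonSubgroupOf_eq_sSup]; exact le_sSup hA
  have hlt_card : ∀ {U V : Subgroup G}, U < V → Nat.card U < Nat.card V := fun h =>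
    Set.ncard_lt_ncard (SetLike.coe_strictMono h) (Set.toFinite _)
  have hBT : B ≤ (S : Subgroup G) := hB.le_sylow_of_normal S
  have hTW : (S : Subgroup G) ≤ Subgroup.normalizer (W : Set G) := by
    intro g hg
    rw [Subgroup.mem_normalizer_iff_map_conj_eq, hW,
      Subgroup.map_inf _ _ _ (MulAut.conj g).injective]
    congr 1
    · exact Subgroup.mem_normalizer_iff_map_conj_eq.1
        (Subgroup.normalizer_eq_top_iff.2 hBn ▸ Subgroup.mem_top g)
    · exact Subgroup.mem_normalizer_iff_map_conj_eq.1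
        (normalizer_le_normalizer_centerOfThompson T (hSN hg))
  set B₁ := Subgroup.normalClosure (W : Set G) with hB₁
  have hB₁B : B₁ ≤ B := Subgroup.normalClosure_le_normal inf_le_left
  have hWB₁ : W ≤ B₁ := Subgroup.le_normalClosure
  rcases lt_or_eq_of_le hB₁B with hlt | heq
  · have h := ih _ (hn ▸ hlt_card hlt) B₁ (hB.to_le hB₁B) rfl
    have : B₁ ⊓ Y = W := le_antisymm (inf_le_inf_right _ hB₁B) (le_inf hWB₁ inf_le_right)
    rwa [this] at h
  by_cases hne : B = ⊥
  · rw [show W = ⊥ by rw [hW, hne, bot_inf_eq]]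
    infer_instance
  by_contra hWn
  -- the derived subgroup lies in `Y` and is central
  have hlt' : ⁅B, B⁆ < B := commutator_lt_of_isPGroup hB hne
  haveI hW'n : (⁅B, B⁆ ⊓ Y).Normal := ih _ (hn ▸ hlt_card hlt') ⁅B, B⁆ (hB.to_le hlt'.le) rfl
  have hWB : ⁅W, B⁆ ≤ ⁅B, B⁆ ⊓ Y := by
    refine le_inf (Subgroup.commutator_mono inf_le_left le_rfl) ?_
    rw [Subgroup.commutator_le]
    intro w hw b hb
    have h1 : b * w⁻¹ * b⁻¹ ∈ W := (Subgroup.mem_normalizer_iff.1 (hTW (hBT hb)) _).1 (inv_mem hw)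
    have h2 := mul_mem hw h1
    rw [show w * (b * w⁻¹ * b⁻¹) = ⁅w, b⁆ by rw [commutatorElement_def]; group] at h2
    exact h2.2
  have hB'Y : ⁅B, B⁆ ≤ Y := by
    refine le_trans ?_ (inf_le_right : ⁅B, B⁆ ⊓ Y ≤ Y)
    set q := QuotientGroup.mk' (⁅B, B⁆ ⊓ Y) with hq
    haveI : (B.map q).Normal := hBn.map q (QuotientGroup.mk'_surjective _)
    have h1 : W ≤ (Subgroup.centralizer (B.map q : Set _)).comap q := by
      intro w hw
      rw [Subgroup.mem_comap, Subgroup.mem_centralizer_iff]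
      rintro _ ⟨b, hb, rfl⟩
      have := hWB (Subgroup.commutator_mem_commutator hw hb)
      rw [← QuotientGroup.eq_one_iff, ← QuotientGroup.mk'_apply, map_commutatorElement,
        commutatorElement_eq_one_iff_mul_comm] at this
      exact this.symm
    have h2 : B ≤ (Subgroup.centralizer (B.map q : Set _)).comap q :=
      heq.ge.trans (Subgroup.normalClosure_le_normal h1)
    rw [Subgroup.commutator_le]
    intro b hb c hc
    rw [← QuotientGroup.eq_one_iff, ← QuotientGroup.mk'_apply, map_commutatorElement,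
      commutatorElement_eq_one_iff_mul_comm]
    exact (Subgroup.mem_centralizer_iff.1 (h2 hb) _ ⟨c, hc, rfl⟩).symm
  have hcl2 : ⁅⁅B, B⁆, B⁆ = ⊥ := by
    rw [Subgroup.commutator_eq_bot_iff_le_centralizer, Subgroup.le_centralizer_iff]
    refine heq.ge.trans (Subgroup.normalClosure_le_normal fun w hw => ?_)
    rw [SetLike.mem_coe, Subgroup.mem_centralizer_iff]
    exact fun d hd => hYab d (hB'Y hd) w hw.2
  have hz : ∀ x ∈ B, ∀ y ∈ B, ∀ d ∈ B, Commute (x * y * x⁻¹ * y⁻¹) d := fun x hx y hy d hd =>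
    (Subgroup.mem_centralizer_iff.1 ((Subgroup.commutator_eq_bot_iff_le_centralizer.1 hcl2)
      (Subgroup.commutator_mem_commutator hx hy)) d hd).symm
  -- `p`-th powers: a normal subgroup `N₂ ≤ Y` containing all `w ^ p`
  set B₂ := (frattini B).map B.subtype with hB₂
  have hB₂n : B₂.Normal := by
    haveI : (frattini B).Characteristic := frattini_characteristic
    rw [hB₂]; infer_instance
  have hB₂lt : B₂ < B := by
    haveI : Nontrivial B := (Subgroup.nontrivial_iff_ne_bot B).2 hne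
    refine lt_of_le_of_ne (Subgroup.map_subtype_le _) fun e => ?_
    obtain ⟨M, hM, -⟩ := (eq_top_or_exists_le_coatom (⊥ : Subgroup B)).resolve_left bot_ne_top
    have h1 : frattini B ≠ ⊤ := fun h => hM.1 (top_le_iff.mp (h ▸ Order.radical_le_coatom hM))
    exact h1 (Subgroup.map_injective B.subtype_injective (e.trans
      (by rw [← MonoidHom.range_eq_map, Subgroup.range_subtype])))
  haveI hN₂n : (B₂ ⊓ Y).Normal := ih _ (hn ▸ hlt_card hB₂lt) B₂ (hB.to_le hB₂lt.le) rfl
  have hwp : ∀ w ∈ W, w ^ p ∈ B₂ ⊓ Y := fun w hw =>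
    ⟨⟨⟨w, hw.1⟩ ^ p, pow_prime_mem_frattini hB ⟨w, hw.1⟩, rfl⟩, pow_mem hw.2 p⟩
  have hN₂c : B ≤ Subgroup.centralizer ((B₂ ⊓ Y : Subgroup G) : Set G) := by
    refine heq.ge.trans (Subgroup.normalClosure_le_normal fun w hw => ?_)
    rw [SetLike.mem_coe, Subgroup.mem_centralizer_iff]
    exact fun d hd => hYab d hd.2 w hw.2
  -- `b ↦ b ^ p` maps `B` multiplicatively into `B₂ ⊓ Y`
  have hpmul : ∀ x ∈ B, ∀ y ∈ B, x ^ p ∈ B₂ ⊓ Y → (y * x) ^ p = y ^ p * x ^ p := by
    intro x hx y hy hxp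
    obtain ⟨h1, h2⟩ := CfsgLib.Coprime.mul_pow_of_central_commutator (x := x) (y := y)
      (z := x * y * x⁻¹ * y⁻¹) (by group) (hz x hx y hy x hx) (hz x hx y hy y hy)
    have hzp : (x * y * x⁻¹ * y⁻¹) ^ p = 1 := by
      have h3 : x ^ p * y = y * x ^ p := Subgroup.mem_centralizer_iff.1 (hN₂c hy) _ hxp
      have h4 : (x * y * x⁻¹ * y⁻¹) ^ p * y * x ^ p = y * x ^ p := by rw [← h1 p, h3]
      exact mul_right_cancel (b := y) (by simpa using mul_right_cancel h4)
    have h5 := h2 p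
    obtain ⟨c, hc⟩ := hp.out.dvd_choose_self (by norm_num : (2 : ℕ) ≠ 0)
      (lt_of_le_of_ne hp.out.two_le (Ne.symm hp2))
    rwa [hc, pow_mul, hzp, one_pow, one_mul] at h5
  have hBp : ∀ b ∈ B, b ^ p ∈ B₂ ⊓ Y := by
    intro b hb
    rw [← heq, hB₁, Subgroup.normalClosure] at hb
    induction hb using Subgroup.closure_induction with
    | mem u hu =>
      obtain ⟨w, hw, hwu⟩ := Group.mem_conjugatesOfSet_iff.1 hu
      obtain ⟨g, rfl⟩ := isConj_iff.1 hwu
      rw [conj_pow]
      exact hN₂n.conj_mem _ (hwp w hw) g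
    | one => rw [one_pow]; exact one_mem _
    | mul u v hu hv ihu ihv =>
      have hu' : u ∈ B := heq ▸ hu
      have hv' : v ∈ B := heq ▸ hv
      rw [hpmul v hv' u hu' ihv]
      exact mul_mem ihu ihv
    | inv u _ ihu => rw [inv_pow]; exact inv_mem ihu
  have hpmul' : ∀ x ∈ B, ∀ y ∈ B, (y * x) ^ p = y ^ p * x ^ p :=
    fun x hx y hy => hpmul x hx y hy (hBp x hx)
  let D : Subgroup G :=
    { carrier := {d | d ∈ B ∧ d ^ p = 1}
      one_mem' := ⟨one_mem _, one_pow p⟩
      mul_mem' := fun {x y} hx hy => ⟨mul_mem hx.1 hy.1, by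
        rw [hpmul' y hy.1 x hx.1, hx.2, hy.2, one_mul]⟩
      inv_mem' := fun {x} hx => ⟨inv_mem hx.1, by rw [inv_pow, hx.2, inv_one]⟩ }
  have hDn : D.Normal := ⟨fun d hd g => ⟨hBn.conj_mem _ hd.1 g, by rw [conj_pow, hd.2]; group⟩⟩
  -- `B'` lies in every largest elementary abelian subgroup
  have hB'p : ∀ d ∈ ⁅B, B⁆, d ^ p = 1 := by
    have : ⁅B, B⁆ ≤ D := by
      rw [Subgroup.commutator_le]
      intro x hx y hy
      refine ⟨Subgroup.commutator_le_self B (Subgroup.commutator_mem_commutator hx hy), ?_⟩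
      rw [commutatorElement_def, hpmul' y⁻¹ (inv_mem hy) (x * y * x⁻¹) (hBn.conj_mem _ hy x), conj_pow]
      have h3 : x * y ^ p = y ^ p * x := (Subgroup.mem_centralizer_iff.1 (hN₂c hx) _ (hBp y hy)).symm
      rw [h3, inv_pow]; group
    exact fun d hd => (this hd).2
  have hB'A : ∀ A ∈ maxElemIn p T, ⁅B, B⁆ ≤ A := fun A hA d hd =>
    mem_of_centralizes hA (hYT (hB'Y hd)) (hB'p d hd) fun a ha => hYJ d (hB'Y hd) a (hmemJ A hA ha)
  -- `J` acts trivially on `B / D`
  set C₀ := (Subgroup.centralizer (B.map (QuotientGroup.mk' D) : Set _)).comap (QuotientGroup.mk' D)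
    with hC₀
  haveI : (B.map (QuotientGroup.mk' D)).Normal := hBn.map _ (QuotientGroup.mk'_surjective _)
  have hC₀n : C₀.Normal := by rw [hC₀]; infer_instance
  have hJC : J ≤ C₀ := by
    intro j hj
    rw [hC₀, Subgroup.mem_comap, Subgroup.mem_centralizer_iff]
    rintro _ ⟨b, hb, rfl⟩
    have hd : j * b * j⁻¹ * b⁻¹ ∈ D := by
      refine ⟨mul_mem (hBn.conj_mem _ hb j) (inv_mem hb), ?_⟩
      rw [hpmul' b⁻¹ (inv_mem hb) (j * b * j⁻¹) (hBn.conj_mem _ hb j), conj_pow,
        hYJ (b ^ p) (hBp b hb).2 j hj, inv_pow]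
      group
    rw [← QuotientGroup.eq_one_iff, ← QuotientGroup.mk'_apply] at hd
    simp only [map_mul, map_inv] at hd
    calc QuotientGroup.mk' D b * QuotientGroup.mk' D j
        = 1 * (QuotientGroup.mk' D b * QuotientGroup.mk' D j) := (one_mul _).symm
      _ = QuotientGroup.mk' D j * QuotientGroup.mk' D b := by rw [← hd]; group
  -- hence `B = D W`
  have hBDW : B ≤ D ⊔ W := by
    refine heq.ge.trans ?_
    rw [hB₁, Subgroup.normalClosure, Subgroup.closure_le]
    intro x hx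
    obtain ⟨w, hw, hwx⟩ := Group.mem_conjugatesOfSet_iff.1 hx
    obtain ⟨g, rfl⟩ := isConj_iff.1 hwx
    haveI := hC₀n
    obtain ⟨m, hm, c, hc, rfl⟩ := exists_frattini S C₀ g
    have hd : c * w * c⁻¹ * w⁻¹ ∈ D := by
      rw [← QuotientGroup.eq_one_iff, ← QuotientGroup.mk'_apply]
      simp only [map_mul, map_inv]
      rw [hC₀, Subgroup.mem_comap, Subgroup.mem_centralizer_iff] at hc
      rw [← hc _ ⟨w, hw.1, rfl⟩]; group
    have hmJ : Cfsg.thompsonSubgroupOf p (T ⊓ C₀) = J :=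
      thompsonSubgroupOf_eq_of_le inf_le_left (le_inf (thompsonSubgroupOf_le T) hJC)
    have hmY : m ∈ Subgroup.normalizer (Y : Set G) := by
      have h := normalizer_le_normalizer_centerOfThompson (p := p) (T ⊓ C₀)
        (normalizer_inf_le_normalizer_inf hTS hcl hC₀n hm)
      have e : Cfsg.centerThompsonOf p (T ⊓ C₀) = Y := by
        rw [hYdef, Cfsg.centerThompsonOf, Cfsg.centerThompsonOf, hmJ]
      rwa [e] at h
    have hw' : m * w * m⁻¹ ∈ W :=
      ⟨hBn.conj_mem _ hw.1 m, (Subgroup.mem_normalizer_iff.1 hmY _).1 hw.2⟩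
    have e : m * c * w * (m * c)⁻¹ = (m * (c * w * c⁻¹ * w⁻¹) * m⁻¹) * (m * w * m⁻¹) := by group
    rw [SetLike.mem_coe, e]
    exact mul_mem (Subgroup.mem_sup_left (hDn.conj_mem _ hd m)) (Subgroup.mem_sup_right hw')
  -- the preimage of `O_p(G / C(B))` normalizes `W`
  set K := (Cfsg.pCore p (G ⧸ Subgroup.centralizer (B : Set G))).comap
      (QuotientGroup.mk' (Subgroup.centralizer (B : Set G))) with hK
  haveI : (Cfsg.pCore p (G ⧸ Subgroup.centralizer (B : Set G))).Normal :=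
    Subgroup.sSup_normal _ (fun _ h => h.1)
  have hKW : K ≤ Subgroup.normalizer (W : Set G) := by
    intro d hd
    obtain ⟨c, hc, s, hs, -, rfl⟩ := exists_mul_of_relIndex_pow S (le_comap_pCore _)
      (relIndex_comap_pCore _) hd
    exact mul_mem (Subgroup.centralizer_le_normalizer _
      (Subgroup.centralizer_le (fun x hx => hx.1) hc)) (hTW hs)
  obtain ⟨A₁, hA₁⟩ := exists_maxElemIn (p := p) T
  -- some member is not inside `K`
  have hex : ∃ A ∈ maxElemIn p T, ¬ A ≤ K := by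
    by_contra hall
    simp only [not_exists, not_and, not_not] at hall
    have hmJ : Cfsg.thompsonSubgroupOf p (T ⊓ K) = J := by
      refine thompsonSubgroupOf_eq_of_le inf_le_left (le_inf (thompsonSubgroupOf_le T) ?_)
      rw [thompsonSubgroupOf_eq_sSup]
      exact sSup_le hall
    apply hWn
    rw [← Subgroup.normalizer_eq_top_iff, eq_top_iff]
    intro g _
    obtain ⟨m, hm, c, hc, rfl⟩ := exists_frattini S K g
    refine mul_mem ?_ (hKW hc)
    have hmY : m ∈ Subgroup.normalizer (Y : Set G) := by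
      have h := normalizer_le_normalizer_centerOfThompson (p := p) (T ⊓ K)
        (normalizer_inf_le_normalizer_inf hTS hcl inferInstance hm)
      have e : Cfsg.centerThompsonOf p (T ⊓ K) = Y := by
        rw [hYdef, Cfsg.centerThompsonOf, Cfsg.centerThompsonOf, hmJ]
      rwa [e] at h
    rw [Subgroup.mem_normalizer_iff_map_conj_eq, hW, Subgroup.map_inf _ _ _ (MulAut.conj m).injective]
    congr 1
    · exact Subgroup.mem_normalizer_iff_map_conj_eq.1
        (Subgroup.normalizer_eq_top_iff.2 hBn ▸ Subgroup.mem_top m)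
    · exact Subgroup.mem_normalizer_iff_map_conj_eq.1 hmY
  obtain ⟨A, ⟨hA, hAK⟩, hmax⟩ :=
    Set.exists_max_image {A | A ∈ maxElemIn p T ∧ ¬ A ≤ K} (fun A => Nat.card ↥(A ⊓ B))
      (Set.toFinite _) (by obtain ⟨A, h1, h2⟩ := hex; exact ⟨A, h1, h2⟩)
  have hAab : IsMulCommutative A := hA.2.1.1
  by_cases hBA : B ≤ Subgroup.normalizer (A : Set G)
  · -- `A` acts quadratically on `B`
    refine hAK (mem_comap_of_isPStableOn (hst B hB) ?_)
    rw [eq_bot_iff, ← (Subgroup.commutator_eq_bot_iff_le_centralizer.2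
      (Subgroup.le_centralizer_iff_isMulCommutative.2 hAab) : ⁅A, A⁆ = ⊥)]
    refine Subgroup.commutator_mono ?_ le_rfl
    rw [Subgroup.commutator_le]
    intro b hb a ha
    rw [commutatorElement_def]
    exact mul_mem ((Subgroup.mem_normalizer_iff.1 (hBA hb) a).1 ha) (inv_mem ha)
  · obtain ⟨A', hA'T, hA'ab, hcard, hlt2, hA'N, hexp⟩ := glauberman_replacement_in_le hp2
      (S.isPGroup') hTS hSN hA.1 hBT hAab hcl2 (hB'A A hA) Subgroup.le_normalizer_of_normal hBA
    have hexpA : Monoid.exponent A ∣ p := Monoid.exponent_dvd_of_forall_pow_eq_one fun a =>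
      Subtype.ext (by simpa using hA.2.1.2 a a.2)
    have hA' : A' ∈ maxElemIn p T :=
      ⟨hA'T, ⟨hA'ab, fun a ha => by
        have := Monoid.pow_exponent_eq_one (⟨a, ha⟩ : A')
        obtain ⟨c, hc⟩ := hexp.trans hexpA
        have h2 : a ^ Monoid.exponent A' = 1 := by simpa using congrArg Subtype.val this
        rw [hc, pow_mul, h2, one_pow]⟩, fun C hC hCE => hcard ▸ hA.2.2 C hC hCE⟩
    have hA'K : A' ≤ K := by
      by_contra h
      exact absurd (hmax A' ⟨hA', h⟩)
        (not_le.2 (Set.ncard_lt_ncard (SetLike.coe_strictMono hlt2) (Set.toFinite _)))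
    have hA'2 : A' ∈ maxElemIn p (T ⊓ K) :=
      ⟨le_inf hA'T hA'K, hA'.2.1, fun C hC hCE => hA'.2.2 C (hC.trans inf_le_left) hCE⟩
    have hJ' : Cfsg.thompsonSubgroupOf p (T ⊓ K) ≤ J := by
      rw [thompsonSubgroupOf_eq_sSup]
      refine sSup_le fun A₂ hA₂ => hmemJ A₂ ⟨hA₂.1.trans inf_le_left, hA₂.2.1, fun C hC hCE =>
        (hA'.2.2 C hC hCE).trans (hA₂.2.2 A' (le_inf hA'T hA'K) hA'.2.1)⟩
    set X := Subgroup.centralizer (Cfsg.thompsonSubgroupOf p (T ⊓ K) : Set G) with hX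
    have hBX : B ≤ X := by
      refine heq.ge.trans ?_
      rw [hB₁, Subgroup.normalClosure, Subgroup.closure_le]
      intro x hx
      obtain ⟨w, hw, hwx⟩ := Group.mem_conjugatesOfSet_iff.1 hx
      obtain ⟨g, rfl⟩ := isConj_iff.1 hwx
      obtain ⟨m, hm, c, hc, rfl⟩ := exists_frattini S K g
      have h1 : c * w * c⁻¹ ∈ W := (Subgroup.mem_normalizer_iff.1 (hKW hc) _).1 hw
      rw [SetLike.mem_coe, hX, Subgroup.mem_centralizer_iff]
      intro j hj
      have hj' : m⁻¹ * j * m ∈ Cfsg.thompsonSubgroupOf p (T ⊓ K) :=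
        (Subgroup.mem_normalizer_iff''.mp (le_normalizer_thompsonSubgroupOf (p := p) (T ⊓ K)
          (normalizer_inf_le_normalizer_inf hTS hcl inferInstance hm)) j).mp hj
      have e := hYJ _ h1.2 _ (hJ' hj')
      calc j * (m * c * w * (m * c)⁻¹) = m * ((m⁻¹ * j * m) * (c * w * c⁻¹)) * m⁻¹ := by group
        _ = m * ((c * w * c⁻¹) * (m⁻¹ * j * m)) * m⁻¹ := by rw [e]
        _ = m * c * w * (m * c)⁻¹ * j := by group
    have hBinT : B ≤ T := by
      refine heq.ge.trans ?_
      rw [hB₁, Subgroup.normalClosure, Subgroup.closure_le]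
      intro x hx
      obtain ⟨w, hw, hwx⟩ := Group.mem_conjugatesOfSet_iff.1 hx
      obtain ⟨g, rfl⟩ := isConj_iff.1 hwx
      exact hcl w (hYT hw.2) g (hBT (hBn.conj_mem _ hw.1 g))
    have hDA' : D ≤ A' := fun d hd => mem_of_centralizes hA' (hBinT hd.1) hd.2 fun a ha =>
      Subgroup.mem_centralizer_iff.1 (hBX hd.1) a (by
        rw [thompsonSubgroupOf_eq_sSup]; exact (le_sSup hA'2 : A' ≤ _) ha)
    refine hBA (hBDW.trans (sup_le (hDA'.trans hA'N) fun w hw => ?_))
    exact Subgroup.centralizer_le_normalizer _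
      (Subgroup.mem_centralizer_iff.2 fun a ha => hYJ w hw.2 a (hmemJ A hA ha))

/-- The ZJ theorem for the full centre `Z(J_e(D))`, `D` strongly closed. -/
theorem centerThompsonOf_normal_of_stronglyClosed (hp2 : p ≠ 2)
    (hc : Subgroup.centralizer (Cfsg.pCore p G : Set G) ≤ Cfsg.pCore p G)
    (hst : ∀ (P : Subgroup G) [P.Normal], IsPGroup p P → Cfsg.IsPStableOn p P) (S : Sylow p G)
    {D : Subgroup G} (hTS : D ≤ (S : Subgroup G))
    (hcl : ∀ d ∈ D, ∀ g : G, g * d * g⁻¹ ∈ (S : Subgroup G) → g * d * g⁻¹ ∈ D) :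
    (Cfsg.centerThompsonOf p D).Normal := by
  haveI : (Cfsg.pCore p G).Normal := Cfsg.pCore_normal p G
  have hOp : IsPGroup p (Cfsg.pCore p G) := CfsgLib.LocalP.isPGroup_pCore
  set Z := Cfsg.centerThompsonOf p D with hZ
  have hab : ⁅Z, Z⁆ = ⊥ := by
    rw [Subgroup.commutator_eq_bot_iff_le_centralizer]
    intro x hx
    exact Subgroup.mem_centralizer_iff.2 fun y hy => Subgroup.mem_centralizer_iff.1 hx.2 y hy.1
  have hq : ⁅⁅Cfsg.pCore p G, Z⁆, Z⁆ = ⊥ := by
    rw [eq_bot_iff, ← hab]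
    refine Subgroup.commutator_mono ?_ le_rfl
    rw [Subgroup.commutator_le]
    intro b hb a ha
    rw [commutatorElement_def]
    exact mul_mem ((Subgroup.mem_normalizer_iff.1 (normalizer_le_normalizer_centerOfThompson D
      (le_normalizer_of_closed hTS hcl le_rfl (hOp.le_sylow_of_normal S hb))) a).1 ha) (inv_mem ha)
  set C := Subgroup.centralizer (Cfsg.pCore p G : Set G) with hC
  haveI : (Cfsg.pCore p (G ⧸ C)).Normal := Cfsg.pCore_normal p _
  have hZO : Z ≤ Cfsg.pCore p G := by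
    refine (mem_comap_of_isPStableOn (hst (Cfsg.pCore p G) hOp) hq).trans ?_
    refine CfsgLib.LocalP.le_pCore inferInstance ?_
    obtain ⟨k, hk⟩ := relIndex_comap_pCore (p := p) C
    obtain ⟨l, hl⟩ := IsPGroup.iff_card.1 (hOp.to_le hc)
    refine IsPGroup.of_card (n := l + k) ?_
    rw [← Subgroup.relIndex_bot_left, ← Subgroup.relIndex_mul_relIndex ⊥ C _ bot_le (le_comap_pCore C),
      Subgroup.relIndex_bot_left, hl, hk, pow_add]
  have h := inf_centerThompsonOf_normal_of_stronglyClosed hp2 hst S hTS hcl (Cfsg.pCore p G) hOp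
  rwa [inf_eq_right.2 hZO] at h

end CfsgLib.GlaubermanZJ
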