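import Cfsg.Agent.FFModule.Basic
import Cfsg.Agent.Constrained.CyclicNormalSylow
import Mathlib.GroupTheory.SemidirectProduct

/-!
The offender inequality for a normal elementary abelian subgroup `V` of a `p`-separable group whose image has
no normal `p`-subgroups: `|A| |C_V(A)| ≤ |A ∩ C(V)| |V|`.
-/

set_option autoImplicit false

open Cfsg

namespace CfsgLib.GlaubermanZJ

variable {G : Type*} [Group G] [Finite G] {p : ℕ} [Fact p.Prime]

theorem card_mul_fixed_le_of_normal (hsep : IsPSolvable p G) (V : Subgroup G) [V.Normal]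
    (hV : IsElementaryAbelian p V)
    (hO : pCore p (G ⧸ Subgroup.centralizer (V : Set G)) = ⊥)
    {A : Subgroup G} (hA : IsElementaryAbelian p A) :
    Nat.card A * Nat.card ↥(V ⊓ Subgroup.centralizer (A : Set G)) ≤
      Nat.card ↥(A ⊓ Subgroup.centralizer (V : Set G)) * Nat.card V := by
  set C := Subgroup.centralizer (V : Set G) with hC
  haveI : C.Normal := Subgroup.normal_centralizer
  -- the action of the quotient on `V`
  have hCk : C ≤ (MulAut.conjNormal : G →* MulAut ↥V).ker := by
    intro c hc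
    rw [MonoidHom.mem_ker]
    ext v
    simp [MulAut.conjNormal_apply, (Subgroup.mem_centralizer_iff.1 hc _ v.2).symm, mul_assoc]
  let φ : G ⧸ C →* MulAut ↥V := QuotientGroup.lift C MulAut.conjNormal hCk
  have hφ : ∀ x : G ⧸ C, (∀ v, φ x v = v) → x = 1 := by
    intro x
    induction x using QuotientGroup.induction_on with | H g => ?_
    intro h
    rw [QuotientGroup.eq_one_iff, hC, Subgroup.mem_centralizer_iff]
    intro v hv
    have h1 : g * v * g⁻¹ = v := congrArg Subtype.val (h ⟨v, hv⟩)
    exact (mul_inv_eq_iff_eq_mul.1 h1).symm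
  let M := ↥V ⋊[φ] (G ⧸ C)
  haveI : Finite M := Finite.of_equiv _ SemidirectProduct.equivProd.symm
  set il : ↥V →* M := SemidirectProduct.inl
  set ir : G ⧸ C →* M := SemidirectProduct.inr
  have hil : Function.Injective il := SemidirectProduct.inl_injective
  have hir : Function.Injective ir := SemidirectProduct.inr_injective
  have hcomm : ∀ (x : G ⧸ C) (v : ↥V), ir x * il v = il v * ir x ↔ φ x v = v := by
    intro x v
    rw [← hil.eq_iff, SemidirectProduct.inl_aut, mul_inv_eq_iff_eq_mul.symm, map_inv]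
  set H : Subgroup M := ir.range with hH
  have hcore : pCore p ↥H = ⊥ := by
    rw [← Constrained.pCore_map (MonoidHom.ofInjective hir) p, hO, Subgroup.map_bot]
  have hsepH : IsPSolvable p ↥H :=
    Constrained.IsPSolvable.of_mulEquiv (Constrained.IsPSolvable.quotient hsep C) (MonoidHom.ofInjective hir)
  have hVel : IsElementaryAbelian p il.range := by
    rw [MonoidHom.range_eq_map]
    exact LocalP.isElementaryAbelian_map il
      (LocalP.isElementaryAbelian_of_map V.subtype V.subtype_injective
        (by rwa [← MonoidHom.range_eq_map, Subgroup.range_subtype]))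
  have hHV : H ≤ Subgroup.normalizer (il.range : Set M) := by
    rw [SemidirectProduct.range_inl_eq_ker_rightHom, Subgroup.normalizer_eq_top]
    exact le_top
  have hf : H ⊓ Subgroup.centralizer (il.range : Set M) = ⊥ := by
    rw [eq_bot_iff]
    rintro _ ⟨⟨x, rfl⟩, hx⟩
    rw [Subgroup.mem_bot, hφ x fun v => (hcomm x v).1
      (Subgroup.mem_centralizer_iff.1 hx (il v) ⟨v, rfl⟩).symm, map_one]
  have S := FFModule.Setting.of_pPrimeCore hVel hHV hf (Constrained.centralizer_pPrimeCore_le hsepH hcore)
  have hle := S.card_mul_fixedPts_le (A := (A.map (QuotientGroup.mk' C)).map ir)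
    (Subgroup.map_le_range _ _) (LocalP.isElementaryAbelian_map _ (LocalP.isElementaryAbelian_map _ hA))
  have h1 : Nat.card ↥((A.map (QuotientGroup.mk' C)).map ir) = C.relIndex A := by
    rw [Constrained.card_map_of_injective ir hir, Constrained.relIndex_eq_card_map]
  have h2 : Nat.card ↥il.range = Nat.card V := (Nat.card_congr (MonoidHom.ofInjective hil).toEquiv).symm
  have h3 : Nat.card ↥(V ⊓ Subgroup.centralizer (A : Set G)) ≤
      Nat.card ↥(FFModule.fixedPts il.range ((A.map (QuotientGroup.mk' C)).map ir)) := by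
    rw [← Subgroup.card_map_of_injective (f := il) hil
        (K := (V ⊓ Subgroup.centralizer (A : Set G)).subgroupOf V) |>.trans
      (Nat.card_congr (Subgroup.subgroupOfEquivOfLe inf_le_left).toEquiv)]
    refine Subgroup.card_le_of_le ?_
    rintro _ ⟨v, hv, rfl⟩
    refine FFModule.mem_fixedPts.2 ⟨⟨v, rfl⟩, ?_⟩
    rintro _ ⟨_, ⟨a, ha, rfl⟩, rfl⟩
    refine (hcomm _ v).2 (Subtype.ext ?_)
    show a * (v : G) * a⁻¹ = v
    have h5 : a * (v : G) = (v : G) * a := Subgroup.mem_centralizer_iff.1 (Subgroup.mem_inf.1 hv).2 a ha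
    rw [h5, mul_inv_cancel_right]
  have h4 : Nat.card ↥(A ⊓ C) * C.relIndex A = Nat.card A := by
    have := Subgroup.relIndex_mul_relIndex ⊥ (A ⊓ C) A bot_le inf_le_left
    rwa [Subgroup.relIndex_bot_left, Subgroup.relIndex_bot_left, Subgroup.inf_relIndex_left] at this
  calc Nat.card A * Nat.card ↥(V ⊓ Subgroup.centralizer (A : Set G))
      = Nat.card ↥(A ⊓ C) * (C.relIndex A * Nat.card ↥(V ⊓ Subgroup.centralizer (A : Set G))) := by
        rw [← mul_assoc, h4]
    _ ≤ Nat.card ↥(A ⊓ C) * Nat.card V :=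
        Nat.mul_le_mul_left _ (h2 ▸ (Nat.mul_le_mul_left _ h3).trans (h1 ▸ hle))

end CfsgLib.GlaubermanZJ
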